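import Mathlib
import Cfsg.Agent.H819.U33.Base
import Cfsg.Agent.BMx.Bridge
import Cfsg.Agent.H819.U33.Trip
import Cfsg.Agent.H800.Sp.B
import Cfsg.Agent.H871.Th7.Main
import Cfsg.Agent.H471.U33.Seven
import Cfsg.Agent.BM.KHAll
import Cfsg.Agent.FastGrp
import Cfsg.Agent.Prune
set_option linter.all false
prune_inst 0x7f00000000000000000000000000000000000000000000000000000000000000000000000000000000000000000000000000000000000000000000000000000000000000000000000000000000000000003fffffffffffffffffffffffffffbeffbdffffffff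
open scoped Cfsg.Agent.FastGrp
set_option Elab.async false

-- part: H979/U33/Local
section
/-!
# S5525, box D: the 7-local argument (helper979)

`Loc u f t t₂ a b` : `u` of order 7, `|C(u)| = 564480`, `f⁻¹ u f = u²`, `⟨t, t₂⟩` of order 9 in `C(⟨u, f⟩)`; `a`, `b` in
`C(⟨u, f⟩)` fuse the eight elements of `⟨t, t₂⟩`.
-/

set_option autoImplicit false

namespace Cfsg.Agent.H979.U33

open Subgroup

/-- conjugation into a Sylow subgroup -/
theorem conj_into {G : Type*} [Group G] [Finite G] {p n : ℕ} (hp : p.Prime) {M S : Subgroup G} (hSM : S ≤ M)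
    (hS : p ^ n ∣ Nat.card S) (hSp : ∀ s ∈ S, s ^ p = 1) (hM : ¬ p ^ (n + 1) ∣ Nat.card M) {x : G} (hx : x ∈ M)
    (hxp : x ^ p = 1) : ∃ m ∈ M, m * x * m⁻¹ ∈ S := by
  have : Fact p.Prime := ⟨hp⟩
  have hS' : IsPGroup p (S.subgroupOf M) := by
    rintro ⟨s, hs⟩
    refine ⟨1, ?_⟩
    rw [pow_one]
    exact Subtype.ext (Subtype.ext (hSp _ hs))
  have hidx : ¬ p ∣ (S.subgroupOf M).index := by
    rintro ⟨k, hk⟩
    apply hM
    have h1 := (S.subgroupOf M).card_mul_index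
    rw [Nat.card_congr (subgroupOfEquivOfLe hSM).toEquiv, hk] at h1
    obtain ⟨l, hl⟩ := hS
    rw [← h1, hl]
    exact ⟨l * k, by ring⟩
  have hX : IsPGroup p (zpowers (⟨x, hx⟩ : M)) := by
    intro y
    obtain ⟨z, hz⟩ := y.2
    refine ⟨1, Subtype.ext ?_⟩
    rw [pow_one]
    show (y : M) ^ p = 1
    rw [← hz]
    show ((⟨x, hx⟩ : M) ^ z) ^ p = 1
    rw [← zpow_natCast, zpow_comm, zpow_natCast]
    have : (⟨x, hx⟩ : M) ^ p = 1 := Subtype.ext hxp
    rw [this, one_zpow]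
  obtain ⟨Q, hQ⟩ := hX.exists_le_sylow
  obtain ⟨m, hm⟩ := MulAction.exists_smul_eq M Q (hS'.toSylow hidx)
  refine ⟨m, m.2, ?_⟩
  have h1 : m * ⟨x, hx⟩ * m⁻¹ ∈ (m • Q : Sylow p M) := by
    show m * ⟨x, hx⟩ * m⁻¹ ∈ ((m • Q : Sylow p M) : Subgroup M)
    rw [Sylow.coe_subgroup_smul]
    exact ⟨⟨x, hx⟩, hQ (mem_zpowers _), rfl⟩
  rw [hm] at h1
  exact h1

/-- two subgroups of 3-power order -/
theorem three_lt {G : Type*} [Group G] [Finite G] {A B : Subgroup G} (hAB : A ≤ B) {x : G} (hx : x ∈ B) (hxA : x ∉ A)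
    (hB : ∀ s ∈ B, s ^ 3 = 1) {n : ℕ} (hA : 3 ^ n ∣ Nat.card A) : 3 ^ (n + 1) ∣ Nat.card B := by
  have h3 : Fact (Nat.Prime 3) := ⟨Nat.prime_three⟩
  have h1 : IsPGroup 3 B := by
    rintro ⟨s, hs⟩
    exact ⟨1, by rw [pow_one]; exact Subtype.ext (hB s hs)⟩
  obtain ⟨k, hk⟩ := IsPGroup.iff_card.1 h1
  have h2 : Nat.card A ∣ Nat.card B := card_dvd_of_le hAB
  have h4 : Nat.card A < Nat.card B := by
    rcases lt_or_eq_of_le (Nat.le_of_dvd Nat.card_pos h2) with h | h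
    · exact h
    · exfalso
      apply hxA
      have h5 : A = B := Subgroup.eq_of_le_of_card_ge hAB h.ge
      rw [h5]
      exact hx
  rw [hk] at h2 h4 ⊢
  obtain ⟨l, -, hl⟩ := (Nat.dvd_prime_pow Nat.prime_three).1 h2
  rw [hl] at hA h4
  have h5 : n ≤ l := (Nat.pow_dvd_pow_iff_le_right (by norm_num)).1 hA
  have h6 : l < k := (Nat.pow_lt_pow_iff_right (by norm_num)).1 h4
  exact pow_dvd_pow 3 (by omega)

structure Loc {G : Type*} [Group G] (u f t t2 a b : G) : Prop where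
  u7 : u ^ 7 = 1
  u1 : u ≠ 1
  f3 : f ^ 3 = 1
  fu : f⁻¹ * u * f = u ^ 2
  t3 : t ^ 3 = 1
  t1 : t ≠ 1
  tu : t * u = u * t
  tf : t * f = f * t
  au : a * u = u * a
  af : a * f = f * a
  bu : b * u = u * b
  bf : b * f = f * b
  ht2 : t2 = a⁻¹ * t * a
  a2 : a⁻¹ * t2 * a = t⁻¹
  com : t * t2 = t2 * t
  b1 : b⁻¹ * t * b = t * t2
  card : Nat.card (centralizer ({u} : Set G)) = 564480

namespace Loc

variable {G : Type*} [Group G] {u f t t2 a b : G} (h : Loc u f t t2 a b)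
include h

theorem t23 : t2 ^ 3 = 1 := by
  rw [h.ht2]
  have : (a⁻¹ * t * a) ^ 3 = a⁻¹ * t ^ 3 * a := by
    have := conj_pow (i := 3) (a := a⁻¹) (b := t)
    rwa [inv_inv] at this
  rw [this, h.t3]
  group

omit h in
theorem comm_conj {x y z : G} (h1 : x * z = z * x) (h2 : y * z = z * y) : (x⁻¹ * y * x) * z = z * (x⁻¹ * y * x) := by
  have h3 : x⁻¹ * z = z * x⁻¹ := by
    rw [inv_mul_eq_iff_eq_mul, ← mul_assoc, h1, mul_inv_cancel_right]
  calc (x⁻¹ * y * x) * z = x⁻¹ * y * (x * z) := by group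
    _ = x⁻¹ * (y * z) * x := by rw [h1]; group
    _ = (x⁻¹ * z) * y * x := by rw [h2]; group
    _ = z * (x⁻¹ * y * x) := by rw [h3]; group

theorem t2u : t2 * u = u * t2 := by
  rw [h.ht2]
  exact comm_conj h.au h.tu

theorem t2f : t2 * f = f * t2 := by
  rw [h.ht2]
  exact comm_conj h.af h.tf

theorem t2_t : t2 ≠ t := by
  intro e
  have h1 := h.a2
  rw [e] at h1
  have h2 := h.ht2
  rw [e] at h2
  rw [← h2] at h1
  have h3 : t * t = 1 := by
    rw [← mul_inv_cancel t, ← h1]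
  apply h.t1
  calc t = t ^ 3 * (t * t)⁻¹ := by group
    _ = 1 := by rw [h.t3, h3]; group

theorem t2_ti : t * t2 ≠ 1 := by
  intro e
  have h1 := h.b1
  rw [e] at h1
  apply h.t1
  calc t = b * (b⁻¹ * t * b) * b⁻¹ := by group
    _ = 1 := by rw [h1]; group

theorem t2_1 : t2 ≠ 1 := by
  intro e
  apply h.t1
  have h1 := h.ht2
  rw [e] at h1
  calc t = a * (a⁻¹ * t * a) * a⁻¹ := by group
    _ = 1 := by rw [← h1]; group

theorem inv_t : t⁻¹ = t ^ 2 := by
  rw [inv_eq_iff_mul_eq_one, ← pow_succ', h.t3]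

/-- **the eight elements are conjugate to `t` in `C(⟨u, f⟩)`** -/
theorem fuse (j k : ℕ) : t ^ j * t2 ^ k = 1 ∨ ∃ r : G, r * u = u * r ∧ r * f = f * r ∧
    r * (t ^ j * t2 ^ k) * r⁻¹ = t := by
  have hj : t ^ j = t ^ (j % 3) := by
    conv_lhs => rw [← Nat.div_add_mod j 3]
    rw [pow_add, pow_mul, h.t3, one_pow, one_mul]
  have hk : t2 ^ k = t2 ^ (k % 3) := by
    conv_lhs => rw [← Nat.div_add_mod k 3]
    rw [pow_add, pow_mul, h.t23, one_pow, one_mul]
  rw [hj, hk]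
  have hj3 : j % 3 < 3 := Nat.mod_lt _ (by norm_num)
  have hk3 : k % 3 < 3 := Nat.mod_lt _ (by norm_num)
  generalize j % 3 = j' at *
  generalize k % 3 = k' at *
  have mulC : ∀ {x y z : G}, x * z = z * x → y * z = z * y → (x * y) * z = z * (x * y) := by
    intro x y z h1 h2
    rw [mul_assoc, h2, ← mul_assoc, h1, mul_assoc]
  -- the two basic conjugations
  have e1 : a * t2 * a⁻¹ = t := by rw [h.ht2]; group
  have e2 : a * t ^ 2 * a⁻¹ = t2 := by
    have := h.a2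
    rw [← h.inv_t, ← this]
    group
  have e3 : b * (t * t2) * b⁻¹ = t := by rw [← h.b1]; group
  have cj : ∀ r x y z : G, r * (x * y) * r⁻¹ = (r * x * r⁻¹) * (r * y * r⁻¹) := fun r x y z => by group
  have cc : ∀ r s x : G, (r * s) * x * (r * s)⁻¹ = r * (s * x * s⁻¹) * r⁻¹ := fun r s x => by group
  have e1' : a * t2 ^ 2 * a⁻¹ = t ^ 2 := by
    rw [pow_two, cj a t2 t2 1, e1, pow_two]
  have e2' : a * t * a⁻¹ = t2 ^ 2 := by
    have h1 : t = t ^ 2 * t ^ 2 := by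
      rw [← pow_add]
      calc t = t ^ 3 * t := by rw [h.t3, one_mul]
        _ = t ^ 4 := by group
    rw [h1, cj a _ _ 1, e2, pow_two]
  have hcomm : ∀ i l : ℕ, t ^ i * t2 ^ l = t2 ^ l * t ^ i := fun i l =>
    ((show Commute t t2 from h.com).pow_pow i l).eq
  have c12 : a * (t * t2 ^ 2) * a⁻¹ = t ^ 2 * t2 ^ 2 := by rw [cj a _ _ 1, e1', e2', hcomm 2 2]
  have c22 : a * (t ^ 2 * t2 ^ 2) * a⁻¹ = t ^ 2 * t2 := by
    have := hcomm 2 1
    rw [pow_one] at this
    rw [cj a _ _ 1, e2, e1', this]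
  have c21 : a * (t ^ 2 * t2) * a⁻¹ = t * t2 := by rw [cj a _ _ 1, e2, e1, h.com]
  interval_cases j' <;> interval_cases k'
  · left; simp
  · right
    refine ⟨a, h.au, h.af, ?_⟩
    rw [pow_zero, one_mul, pow_one, e1]
  · right
    refine ⟨a * (a * a), mulC h.au (mulC h.au h.au), mulC h.af (mulC h.af h.af), ?_⟩
    rw [pow_zero, one_mul, cc, cc, e1', e2, e1]
  · right
    refine ⟨1, by simp, by simp, ?_⟩
    simp
  · right
    refine ⟨b, h.bu, h.bf, ?_⟩
    rw [pow_one, pow_one, e3]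
  · -- t t2^2
    right
    refine ⟨b * (a * (a * a)), mulC h.bu (mulC h.au (mulC h.au h.au)), mulC h.bf (mulC h.af (mulC h.af h.af)), ?_⟩
    rw [pow_one, cc, cc, cc, c12, c22, c21, e3]
  · right
    refine ⟨a * a, mulC h.au h.au, mulC h.af h.af, ?_⟩
    rw [pow_zero, mul_one, cc, e2, e1]
  · -- t^2 t2
    right
    refine ⟨b * a, mulC h.bu h.au, mulC h.bf h.af, ?_⟩
    rw [pow_one, cc, c21, e3]
  · right
    refine ⟨b * (a * a), mulC h.bu (mulC h.au h.au), mulC h.bf (mulC h.af h.af), ?_⟩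
    rw [cc, cc, c22, c21, e3]

/-! ### The subgroups `V = ⟨t, t₂⟩` and `S = ⟨f, t, t₂⟩` -/

omit h in
theorem cm {x y z : G} (h1 : x * z = z * x) (h2 : y * z = z * y) : (x * y) * z = z * (x * y) := by
  rw [mul_assoc, h2, ← mul_assoc, h1, mul_assoc]

theorem vmul (j k j' k' : ℕ) : t ^ j * t2 ^ k * (t ^ j' * t2 ^ k') = t ^ (j + j') * t2 ^ (k + k') := by
  have h1 : t2 ^ k * t ^ j' = t ^ j' * t2 ^ k := ((show Commute t2 t from h.com.symm).pow_pow k j').eq
  calc t ^ j * t2 ^ k * (t ^ j' * t2 ^ k') = t ^ j * (t2 ^ k * t ^ j') * t2 ^ k' := by group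
    _ = t ^ j * (t ^ j' * t2 ^ k) * t2 ^ k' := by rw [h1]
    _ = _ := by rw [pow_add, pow_add]; group

theorem vpow (j k : ℕ) : ∀ n : ℕ, (t ^ j * t2 ^ k) ^ n = t ^ (j * n) * t2 ^ (k * n)
  | 0 => by simp
  | n + 1 => by rw [pow_succ, vpow j k n, h.vmul, Nat.mul_succ, Nat.mul_succ]

theorem vcube (j k : ℕ) : (t ^ j * t2 ^ k) ^ 3 = 1 := by
  rw [h.vpow, mul_comm j, mul_comm k, pow_mul, pow_mul, h.t3, h.t23, one_pow, one_pow, one_mul]

/-- `V` -/
def V : Subgroup G where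
  carrier := {x | ∃ j k : ℕ, x = t ^ j * t2 ^ k}
  one_mem' := ⟨0, 0, by simp⟩
  mul_mem' := by
    rintro _ _ ⟨j, k, rfl⟩ ⟨j', k', rfl⟩
    exact ⟨j + j', k + k', h.vmul _ _ _ _⟩
  inv_mem' := by
    rintro _ ⟨j, k, rfl⟩
    refine ⟨j * 2, k * 2, ?_⟩
    rw [← h.vpow, inv_eq_iff_mul_eq_one, ← pow_succ', h.vcube]

theorem mem_V {x : G} : x ∈ h.V ↔ ∃ j k : ℕ, x = t ^ j * t2 ^ k := Iff.rfl

theorem V_cube {x : G} (hx : x ∈ h.V) : x ^ 3 = 1 := by
  obtain ⟨j, k, rfl⟩ := hx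
  exact h.vcube j k

theorem V_u {x : G} (hx : x ∈ h.V) : x * u = u * x := by
  obtain ⟨j, k, rfl⟩ := hx
  exact cm ((show Commute t u from h.tu).pow_left j).eq ((show Commute t2 u from h.t2u).pow_left k).eq

theorem V_f {x : G} (hx : x ∈ h.V) : x * f = f * x := by
  obtain ⟨j, k, rfl⟩ := hx
  exact cm ((show Commute t f from h.tf).pow_left j).eq ((show Commute t2 f from h.t2f).pow_left k).eq

theorem V_comm {x y : G} (hx : x ∈ h.V) (hy : y ∈ h.V) : x * y = y * x := by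
  obtain ⟨j, k, rfl⟩ := hx
  obtain ⟨j', k', rfl⟩ := hy
  rw [h.vmul, h.vmul, add_comm j, add_comm k]

/-- `S` -/
def S : Subgroup G where
  carrier := {x | ∃ i : ℕ, ∃ v ∈ h.V, x = f ^ i * v}
  one_mem' := ⟨0, 1, one_mem _, by simp⟩
  mul_mem' := by
    rintro _ _ ⟨i, v, hv, rfl⟩ ⟨i', v', hv', rfl⟩
    refine ⟨i + i', v * v', mul_mem hv hv', ?_⟩
    have h1 : v * f ^ i' = f ^ i' * v := ((show Commute v f from h.V_f hv).pow_right i').eq
    calc f ^ i * v * (f ^ i' * v') = f ^ i * (v * f ^ i') * v' := by group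
      _ = f ^ i * (f ^ i' * v) * v' := by rw [h1]
      _ = _ := by rw [pow_add]; group
  inv_mem' := by
    rintro _ ⟨i, v, hv, rfl⟩
    refine ⟨i * 2, v⁻¹, inv_mem hv, ?_⟩
    have h1 : v⁻¹ * (f ^ i)⁻¹ = (f ^ i)⁻¹ * v⁻¹ := by
      rw [← mul_inv_rev, ← mul_inv_rev, ((show Commute v f from h.V_f hv).pow_right i).eq]
    rw [mul_inv_rev, h1]
    congr 1
    rw [pow_mul, inv_eq_iff_mul_eq_one, ← pow_succ', ← pow_mul, mul_comm, pow_mul, h.f3, one_pow]

theorem S_cube {x : G} (hx : x ∈ h.S) : x ^ 3 = 1 := by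
  obtain ⟨i, v, hv, rfl⟩ := hx
  have h1 : Commute (f ^ i) v := ((show Commute f v from (h.V_f hv).symm)).pow_left i
  rw [h1.mul_pow, h.V_cube hv, ← pow_mul, mul_comm, pow_mul, h.f3, one_pow, one_mul]

theorem S_comm {x y : G} (hx : x ∈ h.S) (hy : y ∈ h.S) : x * y = y * x := by
  obtain ⟨i, v, hv, rfl⟩ := hx
  obtain ⟨j, w, hw, rfl⟩ := hy
  have h1 : Commute (f ^ i) w := ((show Commute f w from (h.V_f hw).symm)).pow_left i
  have h2 : Commute v (f ^ j) := ((show Commute v f from (h.V_f hv))).pow_right j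
  have h3 : Commute v w := h.V_comm hv hw
  have h4 : Commute (f ^ i) (f ^ j) := (Commute.refl f).pow_pow i j
  exact ((h4.mul_right h1).mul_left (h2.mul_right h3)).eq

theorem V_le_S : h.V ≤ h.S := fun v hv => ⟨0, v, hv, by simp⟩

theorem V_card [Finite G] : 3 ^ 2 ∣ Nat.card h.V := by
  have h0 : ∀ s ∈ (⊥ : Subgroup G), s ^ 3 = 1 := by
    intro s hs
    rw [mem_bot.1 hs, one_pow]
  have hz : ∀ s ∈ zpowers t, s ∈ h.V := by
    rintro _ ⟨n, rfl⟩
    exact zpow_mem (⟨1, 0, by simp⟩ : t ∈ h.V) n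
  have h1 : 3 ^ (0 + 1) ∣ Nat.card (zpowers t) :=
    three_lt (A := ⊥) bot_le (mem_zpowers t) (fun h2 => h.t1 (mem_bot.1 h2)) (fun s hs => h.V_cube (hz s hs)) (by simp)
  refine three_lt (A := zpowers t) hz (x := t2) ⟨0, 1, by simp⟩ ?_ (fun s hs => h.V_cube hs) h1
  rintro ⟨n, hn⟩
  have hn' : t ^ n = t2 := hn
  have h2 : t ^ n = t ^ (n % 3) := by
    conv_lhs => rw [← Int.mul_ediv_add_emod n 3]
    rw [zpow_add, zpow_mul]
    have : t ^ (3 : ℤ) = 1 := by exact_mod_cast h.t3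
    rw [this, one_zpow, one_mul]
  rw [h2] at hn'
  have h3 : 0 ≤ n % 3 := Int.emod_nonneg _ (by norm_num)
  have h4 : n % 3 < 3 := Int.emod_lt_of_pos _ (by norm_num)
  have h5 : n % 3 = 0 ∨ n % 3 = 1 ∨ n % 3 = 2 := by omega
  rcases h5 with h5 | h5 | h5
  · rw [h5, zpow_zero] at hn'
    exact h.t2_1 hn'.symm
  · rw [h5, zpow_one] at hn'
    exact h.t2_t hn'.symm
  · rw [h5] at hn'
    apply h.t2_ti
    rw [← hn']
    have : t * t ^ (2 : ℤ) = t ^ 3 := by group
    rw [this, h.t3]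

theorem conj_f_pow (i : ℕ) : (f ^ i)⁻¹ * u * f ^ i = u ^ (2 ^ i) := by
  induction i with
  | zero => simp
  | succ i ih =>
    have h1 : (f ^ (i + 1))⁻¹ * u * f ^ (i + 1) = f⁻¹ * ((f ^ i)⁻¹ * u * f ^ i) * f := by rw [pow_succ]; group
    have h2 : f⁻¹ * u ^ (2 ^ i) * f = (f⁻¹ * u * f) ^ (2 ^ i) := by
      have := conj_pow (i := 2 ^ i) (a := f⁻¹) (b := u)
      rw [inv_inv] at this
      exact this.symm
    rw [h1, ih, h2, h.fu, ← pow_mul, pow_succ, mul_comm]

theorem f_not_V : f ∉ h.V := by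
  intro hf
  have h1 := h.V_u hf
  have h2 : u ^ 2 = u := by
    rw [← h.fu]
    calc f⁻¹ * u * f = f⁻¹ * (u * f) := by group
      _ = f⁻¹ * (f * u) := by rw [h1]
      _ = u := by group
  apply h.u1
  calc u = u⁻¹ * u ^ 2 := by group
    _ = 1 := by rw [h2]; group

theorem S_card [Finite G] : 3 ^ 3 ∣ Nat.card h.S :=
  three_lt h.V_le_S (x := f) ⟨1, 1, one_mem _, by simp⟩ h.f_not_V (fun _ hs => h.S_cube hs) h.V_card

/-! ### The group `M = C(u) ⟨f⟩` -/

theorem conjC {c : G} (hc : c * u = u * c) (i : ℕ) : ((f ^ i)⁻¹ * c * f ^ i) * u = u * ((f ^ i)⁻¹ * c * f ^ i) := by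
  -- `u` is a power of `f⁻ⁱ u fⁱ`
  obtain ⟨n, hn⟩ : ∃ n : ℕ, (f ^ i * u * (f ^ i)⁻¹) = u ^ n := by
    have h1 := h.conj_f_pow (i * 2)
    have h2 : f ^ (i * 2) = (f ^ i)⁻¹ := by
      rw [pow_mul, eq_comm, inv_eq_iff_mul_eq_one, ← pow_succ', ← pow_mul, mul_comm, pow_mul, h.f3, one_pow]
    rw [h2, inv_inv] at h1
    exact ⟨_, h1⟩
  have h3 : c * u ^ n = u ^ n * c := ((show Commute c u from hc).pow_right n).eq
  calc ((f ^ i)⁻¹ * c * f ^ i) * u = (f ^ i)⁻¹ * (c * (f ^ i * u * (f ^ i)⁻¹)) * f ^ i := by group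
    _ = (f ^ i)⁻¹ * ((f ^ i * u * (f ^ i)⁻¹) * c) * f ^ i := by rw [hn, h3]
    _ = _ := by group

theorem finv (i : ℕ) : (f ^ i)⁻¹ = f ^ (i * 2) := by
  rw [pow_mul, inv_eq_iff_mul_eq_one, ← pow_succ', ← pow_mul, mul_comm, pow_mul, h.f3, one_pow]

/-- `M` -/
def M : Subgroup G where
  carrier := {x | ∃ i : ℕ, (f ^ i * x) * u = u * (f ^ i * x)}
  one_mem' := ⟨0, by simp⟩
  mul_mem' := by
    rintro x y ⟨i, hx⟩ ⟨j, hy⟩
    refine ⟨j + i, ?_⟩
    -- `f^(j+i) x y = f^j (f^i x) f^-j · f^j y`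
    have h1 := h.conjC hx (j * 2)
    rw [← h.finv, inv_inv] at h1
    have h2 : f ^ (j + i) * (x * y) = (f ^ j * (f ^ i * x) * (f ^ j)⁻¹) * (f ^ j * y) := by
      rw [pow_add]; group
    rw [h2]
    exact cm h1 hy
  inv_mem' := by
    rintro x ⟨i, hx⟩
    refine ⟨i * 2, ?_⟩
    -- `f^-i x⁻¹ = (x f^i)⁻¹`, `x f^i = f^-i (f^i x) f^i`
    have h1 := h.conjC hx i
    have h2 : f ^ (i * 2) * x⁻¹ = ((f ^ i)⁻¹ * (f ^ i * x) * f ^ i)⁻¹ := by
      rw [← h.finv]; group
    rw [h2]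
    exact (show Commute _ _ from h1).inv_left.eq

theorem S_le_M : h.S ≤ h.M := by
  rintro _ ⟨i, v, hv, rfl⟩
  refine ⟨i * 2, ?_⟩
  rw [← h.finv, inv_mul_cancel_left]
  exact h.V_u hv

theorem C_le_M : centralizer ({u} : Set G) ≤ h.M := by
  intro c hc
  refine ⟨0, ?_⟩
  rw [pow_zero, one_mul]
  exact mem_centralizer_singleton_iff.1 hc

theorem M_card [Finite G] : Nat.card h.M ≤ 3 * 564480 := by
  set C := centralizer ({u} : Set G) with hC
  have h1 := (C.subgroupOf h.M).card_mul_index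
  rw [Nat.card_congr (subgroupOfEquivOfLe h.C_le_M).toEquiv, h.card] at h1
  have hfM : ∀ i : ℕ, f ^ i ∈ h.M := by
    intro i
    refine ⟨i * 2, ?_⟩
    rw [← h.finv, inv_mul_cancel, one_mul, mul_one]
  have h2 : (C.subgroupOf h.M).index ≤ 3 := by
    rw [Subgroup.index, ← Nat.card_fin 3]
    refine Nat.card_le_card_of_surjective (fun i : Fin 3 => ((⟨f ^ (i : ℕ), hfM i⟩ : h.M) : h.M ⧸ C.subgroupOf h.M)) ?_
    intro q
    induction q using QuotientGroup.induction_on with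
    | H m =>
      obtain ⟨i, hi⟩ := m.2
      refine ⟨⟨i * 2 % 3, Nat.mod_lt _ (by norm_num)⟩, ?_⟩
      rw [QuotientGroup.eq, mem_subgroupOf]
      show (f ^ (i * 2 % 3))⁻¹ * (m : G) ∈ C
      have h3 : f ^ (i * 2 % 3) = (f ^ i)⁻¹ := by
        rw [h.finv]
        conv_rhs => rw [← Nat.div_add_mod (i * 2) 3]
        rw [pow_add, pow_mul, h.f3, one_pow, one_mul]
      rw [h3, inv_inv]
      exact mem_centralizer_singleton_iff.2 hi
  rw [← h1]
  calc 564480 * (C.subgroupOf h.M).index ≤ 564480 * 3 := Nat.mul_le_mul_left _ h2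
    _ = _ := by norm_num

theorem M_not [Finite G] : ¬ 3 ^ (3 + 1) ∣ Nat.card h.M := by
  intro h2
  have h1 := h.M_card
  have h3 : Nat.card (centralizer ({u} : Set G)) ∣ Nat.card h.M := card_dvd_of_le h.C_le_M
  rw [h.card] at h3
  obtain ⟨k, hk⟩ := h3
  have h4 : 0 < Nat.card h.M := Nat.card_pos
  have h5 : k ≤ 3 := by omega
  interval_cases k <;> omega

/-- **the pairs `(u, y)`** -/
theorem pair [Finite G] {y : G} (hy : y ^ 3 = 1) (hyu : y⁻¹ * u * y = u ^ 2) :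
    ∃ k : G, k * u * k⁻¹ = u ∧ (k * y * k⁻¹ = f ∨ k * y * k⁻¹ = f * t) := by
  have hyM : y ∈ h.M := by
    refine ⟨2, ?_⟩
    have h1 : f ^ 2 = f⁻¹ := by rw [eq_comm, inv_eq_iff_mul_eq_one, ← pow_succ', h.f3]
    rw [h1]
    have h2 : u * y = y * u ^ 2 := by rw [← hyu]; group
    -- `f⁻¹ y` commutes with `u` iff `y f⁻¹` ... use `y u² y⁻¹ = u`
    have h3 : f * u ^ 2 = u * f := by rw [← h.fu]; group
    -- `u⁴ · ` : `y u = u⁴ y`, `f u = u⁴ f`
    have h4 : y * u = u ^ 4 * y := by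
      have : y * u ^ 8 = u ^ 4 * y := by
        have e : ∀ n : ℕ, u ^ n * y = y * u ^ (2 * n) := by
          intro n
          induction n with
          | zero => simp
          | succ n ih =>
            rw [pow_succ, mul_assoc, h2, ← mul_assoc, ih, mul_assoc, ← pow_add, mul_add, mul_one]
        rw [e 4]
      rw [← this]
      have : u ^ 8 = u := by
        calc u ^ 8 = u ^ 7 * u := by group
          _ = u := by rw [h.u7, one_mul]
      rw [this]
    have h5 : f * u = u ^ 4 * f := by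
      have : f * u ^ 8 = u ^ 4 * f := by
        have e : ∀ n : ℕ, u ^ n * f = f * u ^ (2 * n) := by
          intro n
          induction n with
          | zero => simp
          | succ n ih =>
            rw [pow_succ, mul_assoc, ← h3, ← mul_assoc, ih, mul_assoc, ← pow_add, mul_add, mul_one]
        rw [e 4]
      rw [← this]
      have : u ^ 8 = u := by
        calc u ^ 8 = u ^ 7 * u := by group
          _ = u := by rw [h.u7, one_mul]
      rw [this]
    calc f⁻¹ * y * u = f⁻¹ * (y * u) := by group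
      _ = f⁻¹ * (u ^ 4 * y) := by rw [h4]
      _ = f⁻¹ * (u ^ 4 * f) * f⁻¹ * y := by group
      _ = f⁻¹ * (f * u) * f⁻¹ * y := by rw [h5]
      _ = u * (f⁻¹ * y) := by group
  obtain ⟨m, hm, hmS⟩ := conj_into Nat.prime_three h.S_le_M h.S_card (fun _ hs => h.S_cube hs) h.M_not hyM hy
  obtain ⟨i, hi⟩ := hm
  set c := f ^ i * m with hc
  -- `c y c⁻¹ = m y m⁻¹`
  have hfS : f ^ i ∈ h.S := ⟨i, 1, one_mem _, by simp⟩
  have h1 : c * y * c⁻¹ = m * y * m⁻¹ := by
    have h2 := h.S_comm hfS hmS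
    calc c * y * c⁻¹ = (f ^ i * (m * y * m⁻¹)) * (f ^ i)⁻¹ := by rw [hc]; group
      _ = m * y * m⁻¹ := by rw [h2]; group
  rw [← h1] at hmS
  have hcu : c * u * c⁻¹ = u := by rw [hi]; group
  -- the action on `u`
  have h3 : (c * y * c⁻¹)⁻¹ * u * (c * y * c⁻¹) = u ^ 2 := by
    have h4 : c⁻¹ * u * c = u := by
      calc c⁻¹ * u * c = c⁻¹ * (c * u * c⁻¹) * c := by rw [hcu]
        _ = u := by group
    calc (c * y * c⁻¹)⁻¹ * u * (c * y * c⁻¹) = c * (y⁻¹ * (c⁻¹ * u * c) * y) * c⁻¹ := by group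
      _ = c * u ^ 2 * c⁻¹ := by rw [h4, hyu]
      _ = (c * u * c⁻¹) ^ 2 := by rw [conj_pow]
      _ = u ^ 2 := by rw [hcu]
  obtain ⟨j, v, hv, hjv⟩ := hmS
  have h4 : (f ^ j)⁻¹ * u * f ^ j = u ^ 2 := by
    rw [← h3, hjv]
    have h5 := h.V_u hv
    have h6 : v⁻¹ * ((f ^ j)⁻¹ * u * f ^ j) * v = (f ^ j)⁻¹ * u * f ^ j := by
      rw [h.conj_f_pow]
      have h7 : v * u ^ (2 ^ j) = u ^ (2 ^ j) * v := ((show Commute v u from h5).pow_right _).eq
      rw [mul_assoc, ← h7]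
      group
    calc (f ^ j)⁻¹ * u * f ^ j = v⁻¹ * ((f ^ j)⁻¹ * u * f ^ j) * v := h6.symm
      _ = _ := by group
  have hj : f ^ j = f ^ (j % 3) := by
    conv_lhs => rw [← Nat.div_add_mod j 3]
    rw [pow_add, pow_mul, h.f3, one_pow, one_mul]
  rw [hj, h.conj_f_pow] at h4
  have hj3 : j % 3 < 3 := Nat.mod_lt _ (by norm_num)
  have hj1 : f ^ j = f := by
    rw [hj]
    generalize j % 3 = j' at *
    interval_cases j'
    · exfalso
      apply h.u1
      calc u = (u ^ (2 ^ 0))⁻¹ * u ^ 2 := by group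
        _ = 1 := by rw [h4]; group
    · rw [pow_one]
    · exfalso
      apply h.u1
      have h8 : u ^ 2 = 1 := by
        calc u ^ 2 = u ^ (2 ^ 2) * (u ^ 2)⁻¹ := by group
          _ = 1 := by rw [h4]; group
      calc u = u ^ 7 * ((u ^ 2) ^ 3)⁻¹ := by group
        _ = 1 := by rw [h.u7, h8]; group
  rw [hj1] at hjv
  obtain ⟨p, q, rfl⟩ := hv
  rcases h.fuse p q with h5 | ⟨r, hru, hrf, hr⟩
  · refine ⟨c, hcu, Or.inl ?_⟩
    rw [hjv, h5, mul_one]
  · refine ⟨r * c, ?_, Or.inr ?_⟩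
    · calc r * c * u * (r * c)⁻¹ = r * (c * u * c⁻¹) * r⁻¹ := by group
        _ = r * u * r⁻¹ := by rw [hcu]
        _ = u := by rw [hru]; group
    · calc r * c * y * (r * c)⁻¹ = r * (c * y * c⁻¹) * r⁻¹ := by group
        _ = (r * f) * r⁻¹ * (r * (t ^ p * t2 ^ q) * r⁻¹) := by rw [hjv]; group
        _ = f * t := by rw [hrf, hr]; group

/-- **elements of order 3 commuting with `u`** -/
theorem three_conj [Finite G] {s : G} (hs : s ^ 3 = 1) (hs1 : s ≠ 1) (hsu : s * u = u * s) :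
    ∃ k : G, k * s * k⁻¹ = t := by
  have hVC : h.V ≤ centralizer ({u} : Set G) := fun v hv => mem_centralizer_singleton_iff.2 (h.V_u hv)
  obtain ⟨m, -, hmV⟩ := conj_into Nat.prime_three hVC h.V_card (fun _ hs => h.V_cube hs)
    (by rw [h.card]; norm_num) (mem_centralizer_singleton_iff.2 hsu) hs
  obtain ⟨p, q, hpq⟩ := hmV
  rcases h.fuse p q with h5 | ⟨r, -, -, hr⟩
  · exfalso
    apply hs1
    rw [h5] at hpq
    calc s = m⁻¹ * (m * s * m⁻¹) * m := by group
      _ = 1 := by rw [hpq]; group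
  · refine ⟨r * m, ?_⟩
    rw [← hr, ← hpq]
    group

end Loc

end Cfsg.Agent.H979.U33
end

-- part: H979/U33/Ne
section
/-!
# S5525: a word of the 4371-dimensional model is not trivial (helper979)

`ne_one` : the word moves the vector `x` at the lane `i`.
-/

set_option autoImplicit false

namespace Cfsg.Agent.H979.U33

open Cfsg.Agent.Monster.VecEngine Cfsg.Agent.Monster.VecSpace Cfsg.Agent.BabyM.Conc Cfsg.Agent.BabyM.Inst
open Cfsg.Agent.BabyM.Model
open Cfsg.Agent.H819.U33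

/-- the word moves the vector `x` at the lane `i` -/
noncomputable def neChk (w : List Ltr) (x : Pl) (i : ℕ) : Bool :=
  Nat.testBit U i && runL (w.map Ltr.prog) x fun y => !(decide (val y i = val x i))

theorem runW {w : List Ltr} {x : Pl} {k : Pl → Bool} (h : runL (w.map Ltr.prog) x k = true) :
    ∃ y, vecU ℚ U y = W w (vecU ℚ U x) ∧ k y = true := by
  obtain ⟨y, hy, hk⟩ := runL_sound ℚ two_ne_zero (w.map Ltr.prog)
    (fun P hP => ((good_progs w) P hP).pres.ok) x k h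
  refine ⟨y, ?_, hk⟩
  rw [W_apply, vecU_eq, vecU_eq, ← res_semL ℚ (fun P hP => ((good_progs w) P hP).pres), hy]

theorem ne_one {w : List Ltr} {x : Pl} {i : ℕ} (h : neChk w x i = true) : g w ≠ 1 := by
  intro h1
  rw [neChk, Bool.and_eq_true] at h
  obtain ⟨y, hy, hk⟩ := runW h.2
  have h2 : W w = 1 := by
    unfold g at h1
    rw [inv_eq_one] at h1
    exact congrArg Subtype.val h1
  rw [h2] at hy
  have h3 : vecU ℚ U y ⟨i, h.1⟩ = vecU ℚ U x ⟨i, h.1⟩ := by
    rw [hy]; rfl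
  have h4 : ((val y i : ℤ) : ℚ) = ((val x i : ℤ) : ℚ) := h3
  have h5 : val y i = val x i := by exact_mod_cast h4
  simp [h5] at hk

end Cfsg.Agent.H979.U33
end

-- part: H979/U33/WdA
section
/-!
# S5525, box D: the words and their relations (words found by helper841)

`u₀ = g wu`, `f₀ = g wf`, `τ = g [Ltr.tau]`; `R = C(⟨u₀, f₀⟩)`.
-/

set_option autoImplicit false
set_option maxRecDepth 100000
set_option Elab.async false

namespace Cfsg.Agent.H979.U33

open Cfsg.Agent.BabyM.Conc Cfsg.Agent.BabyM.InstVec Cfsg.Agent.BabyM.TransInv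
open Cfsg.Agent.H819.U33

/-- `t` -/
def wt : List Ltr := [.X1, .X3, .X4, .X5, .X7, .Z4, .Z9, .z, .y10, .p8, .h, .p9, .hi, .p3, .h, .xi, .p5, .h, .p6, .xii, .h, .p8, .h, .p2, .hi, .y4, .h, .y7, .p6, .xi, .y2, .y5, .y7, .h, .xii, .y6, .h, .xi, .p5, .xi, .y8, .p10, .xi, .y4, .p3, .hi, .p10, .y4, .p7, .y7, .xii, .p2, .xii, .p7, .xii, .tau, .xi, .p4, .xi, .p9, .xi, .y7, .p4, .y4, .p, .h, .p8, .y4, .xii, .p, .y8, .xii, .p6, .xii, .hi, .y6, .xi, .hi, .y7, .y5, .y2, .xii, .p5, .y7, .hi, .y4, .h, .p9, .hi, .p3, .hi, .xi, .p5, .hi, .p6, .xii, .hi, .p8, .h, .p2, .hi, .p3, .y10, .z, .Z9, .Z4, .X7, .X5, .X4, .X3, .X1]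
/-- `q` -/
def wq : List Ltr := [.X0, .X1, .X5, .X6, .X8, .Z0, .Z1, .Z3, .Z4, .Z5, .Z7, .Z8]

/-- of order 5 -/
def v5 : List Ltr := [Ltr.tau] ++ wq ++ winv wt
/-- of order 7 -/
def v7 : List Ltr := [Ltr.tau] ++ wq ++ wt
def n1 : List Ltr := [Ltr.Z10] ++ wt ++ [Ltr.Z10] ++ wq
def n2 : List Ltr := wt ++ [Ltr.tau] ++ [Ltr.Z6] ++ wq ++ [Ltr.taui] ++ wt ++ [Ltr.Z10]

theorem u_ne : g wu ≠ 1 := ne_one (x := e0P) (i := 1281) (by decide +kernel)
theorem tau_ne : g [Ltr.tau] ≠ 1 := ne_one (x := e0P) (i := 1281) (by decide +kernel)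
theorem v5_ne : g v5 ≠ 1 := ne_one (x := e0P) (i := 1281) (by decide +kernel)
theorem v7_ne : g v7 ≠ 1 := ne_one (x := e0P) (i := 1281) (by decide +kernel)
theorem tau3 : g [Ltr.tau] ^ 3 = 1 := by
  rw [← g_pw, ← g_nil]
  exact eq_of (Cfsg.Agent.BMx.Bridge.chk_of_eqF (by decide +kernel))

theorem wt_u : g wt * g wu = g wu * g wt := comm_of (Cfsg.Agent.BMx.Bridge.chk_of_eqF (by decide +kernel))
theorem wt_f : g wt * g wf = g wf * g wt := comm_of (Cfsg.Agent.BMx.Bridge.chk_of_eqF (by decide +kernel))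
theorem wq_u : g wq * g wu = g wu * g wq := comm_of (Cfsg.Agent.BMx.Bridge.chk_of_eqF (by decide +kernel))
theorem wq_f : g wq * g wf = g wf * g wq := comm_of (Cfsg.Agent.BMx.Bridge.chk_of_eqF (by decide +kernel))
theorem z10_u : g [Ltr.Z10] * g wu = g wu * g [Ltr.Z10] := comm_of (Cfsg.Agent.BMx.Bridge.chk_of_eqF (by decide +kernel))
theorem z10_f : g [Ltr.Z10] * g wf = g wf * g [Ltr.Z10] := comm_of (Cfsg.Agent.BMx.Bridge.chk_of_eqF (by decide +kernel))
theorem z6_u : g [Ltr.Z6] * g wu = g wu * g [Ltr.Z6] := comm_of (Cfsg.Agent.BMx.Bridge.chk_of_eqF (by decide +kernel))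
theorem z6_f : g [Ltr.Z6] * g wf = g wf * g [Ltr.Z6] := comm_of (Cfsg.Agent.BMx.Bridge.chk_of_eqF (by decide +kernel))

end Cfsg.Agent.H979.U33
end

-- part: H979/U33/WdB
section
/-!
# S5525, box D: relations of the words
-/

set_option autoImplicit false
set_option maxRecDepth 100000
set_option Elab.async false

namespace Cfsg.Agent.H979.U33

open Cfsg.Agent.BabyM.Conc Cfsg.Agent.BabyM.InstVec Cfsg.Agent.BabyM.TransInv
open Cfsg.Agent.H819.U33

theorem v5_five : g v5 ^ 5 = 1 := by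
  rw [← g_pw, ← g_nil]
  exact eq_of (Cfsg.Agent.BMx.Bridge.chk_of_eqF (by decide +kernel))

end Cfsg.Agent.H979.U33
end

-- part: H979/U33/WdC
section
/-!
# S5525, box D: relations of the words
-/

set_option autoImplicit false
set_option maxRecDepth 100000
set_option Elab.async false

namespace Cfsg.Agent.H979.U33

open Cfsg.Agent.BabyM.Conc Cfsg.Agent.BabyM.InstVec Cfsg.Agent.BabyM.TransInv
open Cfsg.Agent.H819.U33

theorem v7_seven : g v7 ^ 7 = 1 := by
  rw [← g_pw, ← g_nil]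
  exact eq_of (Cfsg.Agent.BMx.Bridge.chk_of_eqF (by decide +kernel))

end Cfsg.Agent.H979.U33
end

-- part: H979/U33/WdD
section
/-!
# S5525, box D: relations of the words
-/

set_option autoImplicit false
set_option maxRecDepth 100000
set_option Elab.async false

namespace Cfsg.Agent.H979.U33

open Cfsg.Agent.BabyM.Conc Cfsg.Agent.BabyM.InstVec Cfsg.Agent.BabyM.TransInv
open Cfsg.Agent.H819.U33

/-- `τ₂ = n₁⁻¹ τ n₁` -/
def wt2 : List Ltr := cj n1 [Ltr.tau]

theorem tau_tau2 : g [Ltr.tau] * g wt2 = g wt2 * g [Ltr.tau] := comm_of (Cfsg.Agent.BMx.Bridge.chk_of_eqF (by decide +kernel))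

theorem n1_sq : g ([Ltr.tau] ++ n1 ++ n1) = g (n1 ++ n1 ++ winv [Ltr.tau]) := eq_of (Cfsg.Agent.BMx.Bridge.chk_of_eqF (by decide +kernel))

end Cfsg.Agent.H979.U33
end

-- part: H979/U33/WdE
section
/-!
# S5525, box D: relations of the words
-/

set_option autoImplicit false
set_option maxRecDepth 100000
set_option Elab.async false

namespace Cfsg.Agent.H979.U33

open Cfsg.Agent.BabyM.Conc Cfsg.Agent.BabyM.InstVec Cfsg.Agent.BabyM.TransInv
open Cfsg.Agent.H819.U33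

theorem n2_tau : g ([Ltr.tau] ++ n2) = g (n2 ++ [Ltr.tau] ++ cj n1 [Ltr.tau]) := eq_of (Cfsg.Agent.BMx.Bridge.chk_of_eqF (by decide +kernel))

end Cfsg.Agent.H979.U33
end

-- part: H979/U33/SevenOf
section
/-!
# S5525, box D: the 7-local part, from `|C(u)|` and the fusion of the elements of order 7 (helper979)
-/

set_option autoImplicit false

namespace Cfsg.Agent.H979.U33

open Subgroup Cfsg.Agent.BabyM.Conc Cfsg.Agent.BabyM.TransInv Cfsg.Agent.H819.U33

theorem cm3 {x y z : G} (h1 : x * z = z * x) (h2 : y * z = z * y) : (x * y) * z = z * (x * y) := Loc.cm h1 h2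

theorem n1_u : g n1 * g wu = g wu * g n1 := by
  unfold n1
  rw [g_append, g_append, g_append]
  exact cm3 (cm3 (cm3 z10_u wt_u) z10_u) wq_u

theorem n1_f : g n1 * g wf = g wf * g n1 := by
  unfold n1
  rw [g_append, g_append, g_append]
  exact cm3 (cm3 (cm3 z10_f wt_f) z10_f) wq_f

theorem taui_eq : g [Ltr.taui] = (g [Ltr.tau])⁻¹ := by
  rw [← g_winv]
  rfl

theorem taui_u : g [Ltr.taui] * g wu = g wu * g [Ltr.taui] := by
  rw [taui_eq]
  exact (show Commute _ _ from tau_u).inv_left.eq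

theorem taui_f : g [Ltr.taui] * g wf = g wf * g [Ltr.taui] := by
  rw [taui_eq]
  exact (show Commute _ _ from tau_f).inv_left.eq

theorem n2_u : g n2 * g wu = g wu * g n2 := by
  unfold n2
  simp only [g_append]
  exact cm3 (cm3 (cm3 (cm3 (cm3 (cm3 wt_u tau_u) z6_u) wq_u) taui_u) wt_u) z10_u

theorem n2_f : g n2 * g wf = g wf * g n2 := by
  unfold n2
  simp only [g_append]
  exact cm3 (cm3 (cm3 (cm3 (cm3 (cm3 wt_f tau_f) z6_f) wq_f) taui_f) wt_f) z10_f

theorem v5_u : g v5 * g wu = g wu * g v5 := by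
  unfold v5
  rw [g_append, g_append, g_winv]
  exact cm3 (cm3 tau_u wq_u) (show Commute _ _ from wt_u).inv_left.eq

theorem v7_f : g v7 * g wf = g wf * g v7 := by
  unfold v7
  rw [g_append, g_append]
  exact cm3 (cm3 tau_f wq_f) wt_f

theorem wt2_eq : g wt2 = (g n1)⁻¹ * g [Ltr.tau] * g n1 := g_cj _ _

/-- **the local data** -/
theorem loc (card : Nat.card (centralizer ({g wu} : Set G)) = 564480) :
    Loc (g wu) (g wf) (g [Ltr.tau]) (g wt2) (g n1) (g n2) where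
  u7 := u_seven
  u1 := u_ne
  f3 := f_three
  fu := f_u
  t3 := tau3
  t1 := tau_ne
  tu := tau_u
  tf := tau_f
  au := n1_u
  af := n1_f
  bu := n2_u
  bf := n2_f
  ht2 := wt2_eq
  a2 := by
    have h := n1_sq
    simp only [g_append, g_winv] at h
    rw [wt2_eq]
    calc (g n1)⁻¹ * ((g n1)⁻¹ * g [Ltr.tau] * g n1) * g n1 = (g n1)⁻¹ * (g n1)⁻¹ * (g [Ltr.tau] * g n1 * g n1) := by group
      _ = (g n1)⁻¹ * (g n1)⁻¹ * (g n1 * g n1 * (g [Ltr.tau])⁻¹) := by rw [h]
      _ = (g [Ltr.tau])⁻¹ := by group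
  com := tau_tau2
  b1 := by
    have h := n2_tau
    simp only [g_append] at h
    have h2 : g (cj n1 [Ltr.tau]) = g wt2 := rfl
    rw [h2] at h
    calc (g n2)⁻¹ * g [Ltr.tau] * g n2 = (g n2)⁻¹ * (g [Ltr.tau] * g n2) := by group
      _ = (g n2)⁻¹ * (g n2 * g [Ltr.tau] * g wt2) := by rw [h]
      _ = _ := by group
  card := card

theorem order_u : orderOf (g wu) = 7 := by
  have : Fact (Nat.Prime 7) := ⟨by norm_num⟩
  exact orderOf_eq_prime u_seven u_ne

theorem card_u0_of (H : Nat.card (centralizer ({g wu} : Set G)) = 564480 ∨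
    Nat.card (centralizer ({g wu} : Set G)) = 75264) : Nat.card (centralizer ({g wu} : Set G)) = 564480 := by
  rcases H with h | h
  · exact h
  · exfalso
    have : Fact (Nat.Prime 5) := ⟨by norm_num⟩
    have h3 : orderOf (g v5) = 5 := orderOf_eq_prime v5_five v5_ne
    have h4 := Subgroup.orderOf_dvd_natCard (centralizer ({g wu} : Set G)) (mem_centralizer_singleton_iff.2 v5_u)
    rw [h3, h] at h4
    omega

/-- the facts from the Monster -/
structure Mon : Prop where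
  fin : Finite G
  seven : ∀ x y : G, orderOf x = 7 → orderOf y = 7 → IsConj x y
  card : ∀ x : G, orderOf x = 7 → Nat.card (centralizer ({x} : Set G)) = 564480 ∨
    Nat.card (centralizer ({x} : Set G)) = 75264

section

variable (H : Mon)
include H

/-- **(D1)** -/
theorem Mon.card_u0 : Nat.card (centralizer ({g wu} : Set G)) = 564480 := card_u0_of (H.card _ order_u)

theorem Mon.exists_conj {u : G} (h7 : u ^ 7 = 1) (h1 : u ≠ 1) : ∃ k : G, k * u * k⁻¹ = g wu := by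
  have : Fact (Nat.Prime 7) := ⟨by norm_num⟩
  exact isConj_iff.1 (H.seven u (g wu) (orderOf_eq_prime h7 h1) order_u)

/-- **(D3)** -/
theorem Mon.seven_pair {u y x : G} (h : Trip u y x) :
    ∃ k : G, k * u * k⁻¹ = g wu ∧ (k * y * k⁻¹ = g wf ∨ k * y * k⁻¹ = g wf * g [Ltr.tau]) := by
  have := H.fin
  obtain ⟨k, hk⟩ := H.exists_conj h.u7 h.u1
  obtain ⟨m, hm, hmy⟩ := (loc H.card_u0).pair (y := k * y * k⁻¹) (by rw [conj_pow, h.y3]; group)
    (by
      rw [← hk]
      calc (k * y * k⁻¹)⁻¹ * (k * u * k⁻¹) * (k * y * k⁻¹) = k * (y⁻¹ * u * y) * k⁻¹ := by group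
        _ = k * u ^ 2 * k⁻¹ := by rw [h.yu]
        _ = (k * u * k⁻¹) ^ 2 := by rw [conj_pow])
  refine ⟨m * k, ?_, ?_⟩
  · calc m * k * u * (m * k)⁻¹ = m * (k * u * k⁻¹) * m⁻¹ := by group
      _ = g wu := by rw [hk, hm]
  · have e : m * k * y * (m * k)⁻¹ = m * (k * y * k⁻¹) * m⁻¹ := by group
    rw [e]
    exact hmy

/-- elements of order 3 commuting with an element of order 7 -/
theorem Mon.conj_tau {s v : G} (hs : orderOf s = 3) (hv : orderOf v = 7) (hc : s * v = v * s) :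
    IsConj s (g [Ltr.tau]) := by
  have := H.fin
  obtain ⟨k, hk⟩ := isConj_iff.1 (H.seven v (g wu) hv order_u)
  have hs3 : s ^ 3 = 1 := by rw [← hs, pow_orderOf_eq_one]
  have hs1 : s ≠ 1 := by
    rintro rfl
    rw [orderOf_one] at hs
    omega
  obtain ⟨m, hm⟩ := (loc H.card_u0).three_conj (s := k * s * k⁻¹) (by rw [conj_pow, hs3]; group)
    (by
      intro h1
      apply hs1
      calc s = k⁻¹ * (k * s * k⁻¹) * k := by group
        _ = 1 := by rw [h1]; group)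
    (by
      rw [← hk]
      calc k * s * k⁻¹ * (k * v * k⁻¹) = k * (s * v) * k⁻¹ := by group
        _ = k * (v * s) * k⁻¹ := by rw [hc]
        _ = _ := by group)
  refine isConj_iff.2 ⟨m * k, ?_⟩
  rw [← hm]
  group

/-- **(D4)** -/
theorem Mon.conj_f_of_seven {s v : G} (hs : orderOf s = 3) (hv : orderOf v = 7) (hc : s * v = v * s) :
    IsConj s (g wf) := by
  have i3 : Fact (Nat.Prime 3) := ⟨by norm_num⟩
  have i7 : Fact (Nat.Prime 7) := ⟨by norm_num⟩
  have hf : orderOf (g wf) = 3 := by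
    refine orderOf_eq_prime f_three ?_
    intro h1
    have h2 := f_u
    rw [h1, inv_one, one_mul, mul_one] at h2
    apply u_ne
    calc g wu = (g wu)⁻¹ * g wu ^ 2 := by group
      _ = 1 := by rw [← h2]; group
  have h7 : orderOf (g v7) = 7 := orderOf_eq_prime v7_seven v7_ne
  exact (H.conj_tau hs hv hc).trans (H.conj_tau hf h7 v7_f.symm).symm

end

end Cfsg.Agent.H979.U33
end

-- part: H175/U33/SevenConj
section
/-!
# The elements of order 7 of the Baby Monster are conjugate (helper175, for S5525)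

`Th ≤ B` contains a Sylow 7-subgroup of `B`, and the elements of order 7 of `Th` are conjugate.
-/

set_option autoImplicit false

namespace Cfsg.Agent.H175.U33.SevenConj

open Cfsg Subgroup

universe u

/-- an element of order `p` is conjugate to an element of a subgroup of index prime to `p` -/
theorem exists_conj_mem {G : Type*} [Group G] [Finite G] {p : ℕ} [hp : Fact p.Prime] {T : Subgroup G}
    (hT : ¬ p ∣ T.index) {g : G} (hg : orderOf g = p) : ∃ x : G, x * g * x⁻¹ ∈ T := by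
  -- a Sylow subgroup of `T` is a Sylow subgroup of `G`
  obtain ⟨P⟩ : Nonempty (Sylow p T) := inferInstance
  have hQ : IsPGroup p ↥((P : Subgroup T).map T.subtype) := P.2.map _
  have hi : ¬ p ∣ ((P : Subgroup T).map T.subtype).index := by
    intro h
    rw [Subgroup.index_map, Subgroup.ker_subtype, sup_bot_eq, Subgroup.range_subtype] at h
    rcases hp.out.dvd_mul.1 h with h1 | h1
    · exact P.not_dvd_index h1
    · exact hT h1
  have h1 : IsPGroup p ↥(zpowers g) := IsPGroup.of_card (n := 1) (by rw [Nat.card_zpowers, hg, pow_one])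
  obtain ⟨S, hS⟩ := h1.exists_le_sylow
  obtain ⟨x, hx⟩ := MulAction.exists_smul_eq G S (hQ.toSylow hi)
  have h2 : (S : Subgroup G).map (MulAut.conj x).toMonoidHom = (P : Subgroup T).map T.subtype :=
    congrArg (fun S : Sylow p G => (S : Subgroup G)) hx
  refine ⟨x, ?_⟩
  have h3 : x * g * x⁻¹ ∈ (P : Subgroup T).map T.subtype := by
    rw [← h2]
    exact ⟨g, hS (mem_zpowers g), rfl⟩
  obtain ⟨y, -, hy⟩ := h3
  rw [← hy]
  exact y.2

/-- **the elements of order 7 of the Baby Monster are conjugate** (the concrete group) -/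
theorem th_seven : ∀ g h : Spor.BabyMonster, orderOf g = 7 → orderOf h = 7 → IsConj g h := by
  have hfin : Finite Spor.BabyMonster :=
    Nat.finite_of_card_ne_zero (by rw [Cfsg.Agent.S1704.result.2]; norm_num)
  have h7 : Fact (Nat.Prime 7) := ⟨by norm_num⟩
  obtain ⟨T, hT⟩ := Cfsg.Agent.H800.Sp.B.exists_th_B
  have hi := Cfsg.Agent.H800.Sp.B.index_th hT
  obtain ⟨e⟩ := hT
  intro g h hg hh
  obtain ⟨x, hx⟩ := exists_conj_mem (p := 7) hi hg
  obtain ⟨y, hy⟩ := exists_conj_mem (p := 7) hi hh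
  have ox : orderOf (e ⟨x * g * x⁻¹, hx⟩) = 7 := by
    rw [MulEquiv.orderOf_eq, Subgroup.orderOf_mk, ← MulAut.conj_apply, MulEquiv.orderOf_eq, hg]
  have oy : orderOf (e ⟨y * h * y⁻¹, hy⟩) = 7 := by
    rw [MulEquiv.orderOf_eq, Subgroup.orderOf_mk, ← MulAut.conj_apply, MulEquiv.orderOf_eq, hh]
  have h1 : IsConj (e ⟨x * g * x⁻¹, hx⟩) (e ⟨y * h * y⁻¹, hy⟩) :=
    (Cfsg.Agent.H871.Th7.conj7 _ ox).trans (Cfsg.Agent.H871.Th7.conj7 _ oy).symm
  have h2 : IsConj (x * g * x⁻¹) (y * h * y⁻¹) := by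
    have h3 := (T.subtype.comp e.symm.toMonoidHom).map_isConj h1
    simpa using h3
  have h4 : IsConj g (x * g * x⁻¹) := isConj_iff.2 ⟨x, rfl⟩
  have h5 : IsConj h (y * h * y⁻¹) := isConj_iff.2 ⟨y, rfl⟩
  exact (h4.trans h2).trans h5.symm

/-- any group isomorphic to the Baby Monster -/
theorem conj_seven {L : Type u} [Group L] (h : Spor.IsoB L) {x y : L} (hx : orderOf x = 7) (hy : orderOf y = 7) :
    IsConj x y := by
  obtain ⟨e⟩ := h
  have h1 := e.symm.toMonoidHom.map_isConj (th_seven (e x) (e y) (by rw [MulEquiv.orderOf_eq, hx])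
    (by rw [MulEquiv.orderOf_eq, hy]))
  simpa using h1

end Cfsg.Agent.H175.U33.SevenConj
end

-- part: H979/U33/Seven
section
/-!
# S5525, box D: the 7-local part of the Baby Monster (helper979; `th_seven`: helper175, `card_seven`: helper471)
-/

set_option autoImplicit false

namespace Cfsg.Agent.H979.U33

open Subgroup Cfsg Cfsg.Agent.BabyM.Conc Cfsg.Agent.H819.U33

theorem isoB_G : Spor.IsoB G := ⟨BM.KHAll.iso.symm⟩

/-- **the facts from the Monster** -/
theorem mon : Mon where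
  fin := by
    have : Finite Spor.BabyMonster := Nat.finite_of_card_ne_zero (by rw [BM.KHAll.card_B]; norm_num)
    exact Finite.of_equiv _ BM.KHAll.iso.toEquiv
  seven := fun _ _ hx hy => H175.U33.SevenConj.conj_seven isoB_G hx hy
  card := fun _ hx => H471.U33.card_seven isoB_G hx

/-- **(D3)** -/
theorem seven_pair {u y x : G} (h : Trip u y x) :
    ∃ k : G, k * u * k⁻¹ = g wu ∧ (k * y * k⁻¹ = g wf ∨ k * y * k⁻¹ = g wf * g [Ltr.tau]) := mon.seven_pair h

/-- **(D4)** -/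
theorem conj_f_of_seven {s v : G} (hs : orderOf s = 3) (hv : orderOf v = 7) (hc : s * v = v * s) :
    IsConj s (g wf) := mon.conj_f_of_seven hs hv hc

end Cfsg.Agent.H979.U33
end

private theorem dce_9820387070a9 : _root_.True := by
  try have : _root_.True := by simp only [_root_.Cfsg.Agent.H979.U33.neChk.eq_1]
  exact _root_.True.intro
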